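import Groth.Prelude.Def_W4c3irrattreebunCvg
import Mathlib

/-!
Field-theoretic lemmas for covering gonality: spans closed under multiplication, transcendence degrees
of generated fields, and the fraction field of a tensor product of two extensions.
-/

set_option autoImplicit false

universe u

open Cardinal

namespace Groth.Agent.CovGon

/-- A finite span containing `1` and closed under multiplication is an intermediate field. -/
theorem exists_fieldSpan {F Ω : Type u} [Field F] [Field Ω] [Algebra F Ω] {ι : Type*} [Fintype ι] (c : ι → Ω)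
    (h1 : (1 : Ω) ∈ Submodule.span F (Set.range c))
    (hmul : ∀ i j, c i * c j ∈ Submodule.span F (Set.range c)) :
    ∃ W : IntermediateField F Ω, (W : Set Ω) = (Submodule.span F (Set.range c) : Set Ω) ∧
      Module.Finite F W ∧ Module.finrank F W ≤ Fintype.card ι := by
  set s := Submodule.span F (Set.range c) with hs
  have hclosed : ∀ a b, a ∈ s → b ∈ s → a * b ∈ s := fun a b ha hb => by
    have h := Submodule.mul_mem_mul ha hb
    rw [hs, Submodule.span_mul_span] at h
    refine Submodule.span_le.2 ?_ h
    rintro _ ⟨_, ⟨i, rfl⟩, _, ⟨j, rfl⟩, rfl⟩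
    exact hmul i j
  let A : Subalgebra F Ω := s.toSubalgebra h1 hclosed
  haveI hfin : Module.Finite F s := Module.Finite.span_of_finite F (Set.finite_range c)
  haveI : FiniteDimensional F A := hfin
  refine ⟨A.toIntermediateField' (isField_of_isIntegral_of_isField' (Field.toIsField F)), rfl, hfin, ?_⟩
  exact finrank_range_le_card c

/-- A field all of whose generators are algebraic over `R[s]` has transcendence degree at most `#s`. -/
theorem trdeg_le_of_generated {R A : Type u} [Field R] [Field A] [Algebra R A] (s G : Set A)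
    (hG : IntermediateField.adjoin R G = ⊤) (h : ∀ g ∈ G, IsAlgebraic (IntermediateField.adjoin R s) g) :
    Algebra.trdeg R A ≤ #s := by
  set E := IntermediateField.adjoin R s
  have hle : (⊤ : IntermediateField R A) ≤ (algebraicClosure E A).restrictScalars R := by
    rw [← hG, IntermediateField.adjoin_le_iff]
    exact fun g hg => mem_algebraicClosure_iff.2 (h g hg)
  haveI : Algebra.IsAlgebraic E A := ⟨fun a => mem_algebraicClosure_iff.1 (hle IntermediateField.mem_top)⟩
  haveI : Algebra.IsAlgebraic (Algebra.adjoin R s) A := IntermediateField.isAlgebraic_adjoin_iff_top.1 ‹_›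
  exact Algebra.IsAlgebraic.trdeg_le_cardinalMk R s

/-- The same, for an intermediate field given by generators. -/
theorem trdeg_adjoin_le {R A : Type u} [Field R] [Field A] [Algebra R A] (s G : Set A) (hs : s ⊆ G)
    (h : ∀ g ∈ G, IsAlgebraic (IntermediateField.adjoin R s) g) :
    Algebra.trdeg R (IntermediateField.adjoin R G) ≤ #s := by
  set E := IntermediateField.adjoin R s
  have h1 : Algebra.trdeg R E ≤ #s := by
    refine (trdeg_le_of_generated (Subtype.val ⁻¹' s) (Subtype.val ⁻¹' s) ?_ fun g hg => ?_).trans
      (mk_preimage_of_injective _ _ Subtype.val_injective)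
    · apply IntermediateField.lift_injective E
      rw [IntermediateField.lift_adjoin, IntermediateField.lift_top, Set.image_preimage_eq_of_subset]
      rw [Subtype.range_coe]
      exact IntermediateField.subset_adjoin R s
    · exact isAlgebraic_algebraMap (⟨g, IntermediateField.subset_adjoin _ _ hg⟩ : IntermediateField.adjoin R _)
  set C := algebraicClosure E A
  have h2 : IntermediateField.adjoin R G ≤ C.restrictScalars R :=
    IntermediateField.adjoin_le_iff.2 fun g hg => mem_algebraicClosure_iff.2 (h g hg)
  refine (trdeg_le_of_injective (IntermediateField.inclusion h2) (RingHom.injective _)).trans ?_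
  have h3 : Algebra.trdeg R E + Algebra.trdeg E C = Algebra.trdeg R C := trdeg_add_eq R E
  rw [_root_.trdeg_eq_zero (R := E) (A := C), add_zero] at h3
  exact (show Algebra.trdeg R C ≤ #s from h3 ▸ h1)

variable {k K : Type u} [Field k] [Field K] [Algebra k K]

/-- Data of the diagram: transcendence degrees. -/
theorem diag_trdeg {e : ℕ} (D : W4c3irrattreebun.CovDiag.{u} k K e) :
    Algebra.trdeg k D.KB + 1 = Algebra.trdeg k K := by
  have h1 : Algebra.trdeg k K + Algebra.trdeg K D.KC = Algebra.trdeg k D.KC := trdeg_add_eq k K
  have h2 : Algebra.trdeg k D.KB + Algebra.trdeg D.KB D.KC = Algebra.trdeg k D.KC := trdeg_add_eq k D.KB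
  have h3 : Algebra.trdeg D.KB D.KC = 1 := by
    haveI : Algebra.IsAlgebraic (Algebra.adjoin D.KB ({D.t} : Set D.KC)) D.KC :=
      IntermediateField.isAlgebraic_adjoin_iff_top.1 inferInstance
    refine le_antisymm ((Algebra.IsAlgebraic.trdeg_le_cardinalMk D.KB ({D.t} : Set D.KC)).trans (mk_singleton _).le) ?_
    have h := ((algebraicIndependent_unique_type_iff (ι := PUnit.{u + 1}) (x := fun _ => D.t)).2 D.transc).cardinalMk_le_trdeg
    simpa using h
  rw [_root_.trdeg_eq_zero (R := K) (A := D.KC), add_zero] at h1
  rw [h1, ← h2, h3]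

variable {L K' : Type u} [Field L] [Field K'] [Algebra k L] [Algebra k K'] [Algebra K K'] [Algebra L K']
  [IsScalarTower k K K'] [IsScalarTower k L K']

/-- `K'` is the compositum of linearly disjoint copies of `K` and `L`. -/
structure IsCompositum (k K L K' : Type u) [Field k] [Field K] [Field L] [Field K'] [Algebra k K] [Algebra k L]
    [Algebra k K'] [Algebra K K'] [Algebra L K'] [IsScalarTower k K K'] [IsScalarTower k L K'] : Prop where
  indep : ∀ {ι : Type u} (x : ι → K), AlgebraicIndependent k x → AlgebraicIndependent L (algebraMap K K' ∘ x)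
  gen : IntermediateField.adjoin L (Set.range (algebraMap K K')) = ⊤

theorem IsCompositum.trdeg_eq (h : IsCompositum k K L K') : Algebra.trdeg L K' = Algebra.trdeg k K := by
  obtain ⟨s, hs⟩ := exists_isTranscendenceBasis k K
  haveI := hs.isAlgebraic
  have hle : Algebra.trdeg L K' ≤ #(algebraMap K K' '' s) := by
    refine trdeg_le_of_generated _ _ h.gen ?_
    rintro _ ⟨a, rfl⟩
    set E := IntermediateField.adjoin L (algebraMap K K' '' s)
    have hmem : ∀ b ∈ Algebra.adjoin k s, algebraMap K K' b ∈ E := fun b hb => by
      induction hb using Algebra.adjoin_induction with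
      | mem b hb => exact IntermediateField.subset_adjoin _ _ ⟨b, hb, rfl⟩
      | algebraMap c =>
        rw [← IsScalarTower.algebraMap_apply k K K', IsScalarTower.algebraMap_apply k L K']
        exact E.algebraMap_mem _
      | add b c _ _ hb hc => rw [map_add]; exact add_mem hb hc
      | mul b c _ _ hb hc => rw [map_mul]; exact mul_mem hb hc
    let f : Algebra.adjoin k s →+* E :=
      ((algebraMap K K').comp (Algebra.adjoin k s).val.toRingHom).codRestrict E fun b => hmem b.1 b.2
    have hs' : Algebra.adjoin k (Set.range (Subtype.val : s → K)) = Algebra.adjoin k s := by rw [Subtype.range_coe]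
    have ha : IsAlgebraic (Algebra.adjoin k s) a := hs' ▸ Algebra.IsAlgebraic.isAlgebraic a
    exact ha.ringHom_of_comp_eq f (algebraMap K K') (fun x y hxy => Subtype.ext ((algebraMap K K').injective
      (congrArg Subtype.val hxy))) (RingHom.ext fun x => rfl)
  rw [mk_image_eq (algebraMap K K').injective, hs.cardinalMk_eq_trdeg] at hle
  exact le_antisymm hle (hs.cardinalMk_eq_trdeg.symm.trans_le (h.indep _ hs.1).cardinalMk_le_trdeg)

open TensorProduct in
/-- The fraction field of `K ⊗ L` is a compositum. -/
theorem isCompositum_of_isFractionRing [Algebra (K ⊗[k] L) K'] [IsFractionRing (K ⊗[k] L) K']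
    (hK : ∀ a : K, algebraMap K K' a = algebraMap (K ⊗[k] L) K' (a ⊗ₜ[k] 1))
    (hL : ∀ b : L, algebraMap L K' b = algebraMap (K ⊗[k] L) K' (1 ⊗ₜ[k] b)) :
    IsCompositum k K L K' where
  indep := by
    intro ι x hx
    rw [algebraicIndependent_iff_injective_aeval]
    let e₁ : MvPolynomial ι L →+* L ⊗[k] MvPolynomial ι k :=
      (MvPolynomial.algebraTensorAlgEquiv k L).symm.toRingEquiv.toRingHom
    let e₂ : L ⊗[k] MvPolynomial ι k →+* L ⊗[k] K :=
      (Algebra.TensorProduct.map (AlgHom.id k L) (MvPolynomial.aeval x)).toRingHom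
    let e₃ : L ⊗[k] K →+* K' := (algebraMap (K ⊗[k] L) K').comp
      (Algebra.TensorProduct.comm k L K).toRingEquiv.toRingHom
    have hm : (MvPolynomial.aeval (R := L) (algebraMap K K' ∘ x)).toRingHom = e₃.comp (e₂.comp e₁) := by
      refine MvPolynomial.ringHom_ext (fun b => ?_) fun i => ?_
      · have : e₁ (MvPolynomial.C b) = b ⊗ₜ[k] 1 := MvPolynomial.algebraTensorAlgEquiv_symm_monomial k L 0 b
        refine Eq.trans ?_ (congrArg (fun t => e₃ (e₂ t)) this).symm
        refine (MvPolynomial.aeval_C _ b).trans ((hL b).trans ?_)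
        simp [e₂, e₃]
      · have : e₁ (MvPolynomial.X i) = 1 ⊗ₜ[k] MvPolynomial.X i := MvPolynomial.algebraTensorAlgEquiv_symm_X k L i
        refine Eq.trans ?_ (congrArg (fun t => e₃ (e₂ t)) this).symm
        refine (MvPolynomial.aeval_X _ i).trans ((hK (x i)).trans ?_)
        simp [e₂, e₃]
    show Function.Injective (MvPolynomial.aeval (R := L) (algebraMap K K' ∘ x)).toRingHom
    rw [hm]
    refine Function.Injective.comp (g := e₃) ?_ (Function.Injective.comp (g := e₂) ?_ ?_)
    · exact (IsFractionRing.injective (K ⊗[k] L) K').comp (Algebra.TensorProduct.comm k L K).injective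
    · exact Module.Flat.lTensor_preserves_injective_linearMap (MvPolynomial.aeval x).toLinearMap hx
    · exact (MvPolynomial.algebraTensorAlgEquiv k L).symm.injective
  gen := by
    rw [eq_top_iff]
    intro z _
    set E := IntermediateField.adjoin L (Set.range (algebraMap K K'))
    have hmem : ∀ p : K ⊗[k] L, algebraMap _ K' p ∈ E := fun p => by
      induction p using TensorProduct.induction_on with
      | zero => rw [map_zero]; exact zero_mem E
      | tmul a b =>
        rw [show a ⊗ₜ[k] b = (a ⊗ₜ[k] (1 : L)) * ((1 : K) ⊗ₜ[k] b) by simp, map_mul, ← hK, ← hL]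
        exact mul_mem (IntermediateField.subset_adjoin _ _ ⟨a, rfl⟩) (E.algebraMap_mem b)
      | add p q hp hq => rw [map_add]; exact add_mem hp hq
    obtain ⟨p, q, -, rfl⟩ := IsFractionRing.div_surjective (A := K ⊗[k] L) z
    exact div_mem (hmem p) (hmem q)

end Groth.Agent.CovGon
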