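import Groth.Agent.CovGon.Place

/-!
Covering gonality does not change under an extension of the field of constants.
-/

set_option autoImplicit false
set_option maxHeartbeats 800000

universe u

open scoped Classical
open Cardinal W4c3irrattreebun

namespace Groth.Agent.CovGon

/-- A field extension generated by finitely many elements has finite transcendence degree. -/
lemma trdeg_lt_aleph0_of_fg {k K : Type u} [Field k] [Field K] [Algebra k K] (h : (⊤ : IntermediateField k K).FG) :
    Algebra.trdeg k K < ℵ₀ := by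
  obtain ⟨s, hs⟩ := h
  refine lt_of_le_of_lt (trdeg_le_of_generated (s : Set K) s hs fun g hg => ?_) (Set.Finite.lt_aleph0 s.finite_toSet)
  exact isAlgebraic_algebraMap (⟨g, IntermediateField.subset_adjoin k _ hg⟩ : IntermediateField.adjoin k (s : Set K))

lemma not_succ_le {N : Cardinal.{u}} (hN : N < ℵ₀) : ¬ N + 1 ≤ N := by
  obtain ⟨n, rfl⟩ := lt_aleph0.1 hN
  intro h
  norm_cast at h
  omega

/-- Building a diagram from a spanning family. -/
lemma exists_diag {k K KC : Type u} [Field k] [Field K] [Field KC] [Algebra k K] [Algebra K KC] [Algebra k KC]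
    [IsScalarTower k K KC] [Module.Finite K KC] (KB : IntermediateField k KC) (t : KC) {ι : Type u} [Fintype ι]
    (c : ι → KC) (hc : Submodule.span (IntermediateField.adjoin KB ({t} : Set KC)) (Set.range c) = ⊤)
    {N : Cardinal.{u}} (hN : N < ℵ₀) (hKB : Algebra.trdeg k KB ≤ N) (hK : Algebra.trdeg k K = N + 1) :
    ∃ e ≤ Fintype.card ι, ∃ D : CovDiag.{u} k K e, Algebra.IsSeparable K KC → Algebra.IsSeparable K D.KC := by
  haveI : Module.Finite (IntermediateField.adjoin KB ({t} : Set KC)) KC :=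
    Module.Finite.of_fg_top ⟨(Set.finite_range c).toFinset, by rw [Set.Finite.coe_toFinset, hc]⟩
  have ht : Transcendental KB t := fun h => not_succ_le hN (by
    haveI : FiniteDimensional KB (IntermediateField.adjoin KB ({t} : Set KC)) :=
      IntermediateField.adjoin.finiteDimensional h.isIntegral
    haveI : Module.Finite KB KC := Module.Finite.trans (IntermediateField.adjoin KB ({t} : Set KC)) KC
    haveI : Algebra.IsAlgebraic KB KC := Algebra.IsAlgebraic.of_finite KB KC
    have h1 : Algebra.trdeg k K + Algebra.trdeg K KC = Algebra.trdeg k KC := trdeg_add_eq k K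
    have h2 : Algebra.trdeg k KB + Algebra.trdeg KB KC = Algebra.trdeg k KC := trdeg_add_eq k KB
    rw [trdeg_eq_zero (R := K) (A := KC), add_zero] at h1
    rw [trdeg_eq_zero (R := KB) (A := KC), add_zero] at h2
    rw [← hK, h1, ← h2]
    exact hKB)
  refine ⟨Module.finrank (IntermediateField.adjoin KB ({t} : Set KC)) KC, ?_,
    { KC := KC, KB := KB, t := t, transc := ht, finrank_eq := rfl }, id⟩
  rw [← finrank_top, ← hc]
  exact finrank_range_le_card c

/-- An injective map carries elements algebraic over generators to elements algebraic over their images. -/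
lemma isAlgebraic_map_adjoin {k A L B : Type u} [Field k] [Field A] [Field L] [Field B] [Algebra k A] [Algebra L B]
    (φ : A →+* B) (j : k →+* L) (hj : ∀ c, φ (algebraMap k A c) = algebraMap L B (j c)) (s : Set A) {a : A}
    (ha : IsAlgebraic (Algebra.adjoin k s) a) : IsAlgebraic (IntermediateField.adjoin L (φ '' s)) (φ a) := by
  set E := IntermediateField.adjoin L (φ '' s)
  have hmem : ∀ b ∈ Algebra.adjoin k s, φ b ∈ E := fun b hb => by
    induction hb using Algebra.adjoin_induction with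
    | mem b hb => exact IntermediateField.subset_adjoin _ _ ⟨b, hb, rfl⟩
    | algebraMap c => rw [hj]; exact E.algebraMap_mem _
    | add b c _ _ hb hc => rw [map_add]; exact add_mem hb hc
    | mul b c _ _ hb hc => rw [map_mul]; exact mul_mem hb hc
  let f : Algebra.adjoin k s →+* E :=
    (φ.comp (Algebra.adjoin k s).val.toRingHom).codRestrict E fun b => hmem b.1 b.2
  exact ha.ringHom_of_comp_eq f φ (fun x y hxy => Subtype.ext (φ.injective (congrArg Subtype.val hxy)))
    (RingHom.ext fun x => rfl)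

variable {k K L K' : Type u} [Field k] [Field K] [Field L] [Field K'] [Algebra k K] [Algebra k L] [Algebra k K']
  [Algebra K K'] [Algebra L K'] [IsScalarTower k K K'] [IsScalarTower k L K']

theorem push (h : IsCompositum k K L K') (hfg : (⊤ : IntermediateField k K).FG) {e : ℕ} (D : CovDiag.{u} k K e) :
    ∃ e' ≤ e, ∃ D' : CovDiag.{u} L K' e', Algebra.IsSeparable K D.KC → Algebra.IsSeparable K' D'.KC := by
  let σ₀ : D.KC →ₐ[K] AlgebraicClosure K' := IsAlgClosed.lift
  let bK := Module.Free.chooseBasis K D.KC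
  let G : Set (AlgebraicClosure K') := Set.range (σ₀ ∘ bK)
  let KC' := IntermediateField.adjoin K' G
  haveI : Finite G := (Set.finite_range _).to_subtype
  have hint : ∀ x ∈ G, IsIntegral K' x := by
    rintro _ ⟨i, rfl⟩
    exact ((Algebra.IsIntegral.isIntegral (R := K) (bK i)).map σ₀).tower_top
  haveI : FiniteDimensional K' KC' := IntermediateField.finiteDimensional_adjoin hint
  have hmem : ∀ z, σ₀ z ∈ KC' := fun z => by
    rw [← bK.sum_repr z, map_sum]
    refine sum_mem fun i _ => ?_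
    rw [map_smul, Algebra.smul_def, IsScalarTower.algebraMap_apply K K' (AlgebraicClosure K')]
    exact mul_mem (KC'.algebraMap_mem _) (IntermediateField.subset_adjoin _ _ ⟨i, rfl⟩)
  let σ : D.KC →+* KC' := σ₀.toRingHom.codRestrict KC' hmem
  have hσK : ∀ a : K, σ (algebraMap K D.KC a) = algebraMap K' KC' (algebraMap K K' a) := fun a =>
    Subtype.ext ((σ₀.commutes a).trans (IsScalarTower.algebraMap_apply K K' (AlgebraicClosure K') a))
  have hσk : ∀ c : k, σ (algebraMap k D.KC c) = algebraMap L KC' (algebraMap k L c) := fun c => by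
    rw [IsScalarTower.algebraMap_apply k K D.KC, hσK, IsScalarTower.algebraMap_apply L K' KC',
      ← IsScalarTower.algebraMap_apply k K K', ← IsScalarTower.algebraMap_apply k L K']
  let KB' : IntermediateField L KC' := IntermediateField.adjoin L (σ '' Set.range (algebraMap D.KB D.KC))
  let F' := IntermediateField.adjoin KB' ({σ D.t} : Set KC')
  have hKBF : ∀ b : KB', (b : KC') ∈ F' := fun b => F'.algebraMap_mem b
  have hF : ∀ q ∈ IntermediateField.adjoin D.KB ({D.t} : Set D.KC), σ q ∈ F' := fun q hq => by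
    induction hq using IntermediateField.adjoin_induction with
    | mem x hx => rw [Set.mem_singleton_iff.1 hx]; exact IntermediateField.subset_adjoin _ _ rfl
    | algebraMap b => exact hKBF ⟨σ (algebraMap D.KB D.KC b), IntermediateField.subset_adjoin _ _ ⟨_, ⟨b, rfl⟩, rfl⟩⟩
    | add x y _ _ hx hy => rw [map_add]; exact add_mem hx hy
    | inv x _ hx => rw [map_inv₀]; exact inv_mem hx
    | mul x y _ _ hx hy => rw [map_mul]; exact mul_mem hx hy
  let b := Module.Free.chooseBasis (IntermediateField.adjoin D.KB ({D.t} : Set D.KC)) D.KC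
  let c : Module.Free.ChooseBasisIndex (IntermediateField.adjoin D.KB ({D.t} : Set D.KC)) D.KC → KC' := σ ∘ b
  have hspan : ∀ z, σ z ∈ Submodule.span F' (Set.range c) := fun z => by
    rw [← b.sum_repr z, map_sum]
    refine Submodule.sum_mem _ fun i _ => ?_
    rw [Algebra.smul_def, map_mul]
    exact Submodule.smul_mem _ (⟨_, hF _ (b.repr z i).2⟩ : F') (Submodule.subset_span ⟨i, rfl⟩)
  obtain ⟨W, hW, -, -⟩ := exists_fieldSpan c (by rw [← map_one σ]; exact hspan 1)
    (fun i j => by simp only [c, Function.comp_apply]; rw [← map_mul]; exact hspan _)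
  have hWσ : ∀ z, σ z ∈ W := fun z => by rw [← SetLike.mem_coe, hW]; exact hspan z
  have hWL : ∀ l : L, algebraMap L KC' l ∈ W := fun l => by
    have h1 : algebraMap L KC' l ∈ KB' := KB'.algebraMap_mem l
    exact W.algebraMap_mem (⟨_, hKBF ⟨_, h1⟩⟩ : F')
  have hWK' : ∀ a : K', algebraMap K' KC' a ∈ W := fun a => by
    have ha : a ∈ IntermediateField.adjoin L (Set.range (algebraMap K K')) := h.gen ▸ IntermediateField.mem_top
    induction ha using IntermediateField.adjoin_induction with
    | mem x hx => obtain ⟨y, rfl⟩ := hx; rw [← hσK]; exact hWσ _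
    | algebraMap l => rw [← IsScalarTower.algebraMap_apply]; exact hWL l
    | add x y _ _ hx hy => rw [map_add]; exact add_mem hx hy
    | inv x _ hx => rw [map_inv₀]; exact inv_mem hx
    | mul x y _ _ hx hy => rw [map_mul]; exact mul_mem hx hy
  have htop : Submodule.span F' (Set.range c) = ⊤ := by
    refine Submodule.eq_top_iff'.2 fun z => ?_
    rw [← SetLike.mem_coe, ← hW]
    obtain ⟨z, hz⟩ := z
    induction hz using IntermediateField.adjoin_induction with
    | mem x hx => obtain ⟨i, rfl⟩ := hx; exact hWσ (bK i)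
    | algebraMap a => exact hWK' a
    | add x y hx hy hx' hy' => exact add_mem hx' hy'
    | inv x hx hx' => exact inv_mem hx'
    | mul x y hx hy hx' hy' => exact mul_mem hx' hy'
  have hN : Algebra.trdeg k D.KB < ℵ₀ := lt_of_le_of_lt le_self_add (diag_trdeg D ▸ trdeg_lt_aleph0_of_fg hfg)
  have hKB : Algebra.trdeg L KB' ≤ Algebra.trdeg k D.KB := by
    obtain ⟨s, hs⟩ := exists_isTranscendenceBasis k D.KB
    haveI := hs.isAlgebraic
    let φ : D.KB →+* KC' := σ.comp (algebraMap D.KB D.KC)
    refine (trdeg_adjoin_le (φ '' s) _ ?_ ?_).trans (mk_image_le.trans hs.cardinalMk_eq_trdeg.le)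
    · rintro _ ⟨b, -, rfl⟩
      exact ⟨_, ⟨b, rfl⟩, rfl⟩
    · rintro _ ⟨_, ⟨b, rfl⟩, rfl⟩
      have hs' : Algebra.adjoin k (Set.range (Subtype.val : s → D.KB)) = Algebra.adjoin k s := by rw [Subtype.range_coe]
      exact isAlgebraic_map_adjoin φ (algebraMap k L) (fun c => by
        show σ (algebraMap D.KB D.KC (algebraMap k D.KB c)) = _
        rw [← IsScalarTower.algebraMap_apply k D.KB D.KC, hσk]) s
        (hs' ▸ Algebra.IsAlgebraic.isAlgebraic b)
  obtain ⟨e', he', D', hD'⟩ := exists_diag KB' (σ D.t) c htop hN hKB (by rw [h.trdeg_eq, diag_trdeg D])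
  refine ⟨e', he'.trans ?_, D', fun hsep => hD' ((IntermediateField.isSeparable_adjoin_iff_isSeparable K' _).2 ?_)⟩
  · rw [← Module.finrank_eq_card_chooseBasisIndex, D.finrank_eq]
  · rintro _ ⟨i, rfl⟩
    exact IsSeparable.tower_top K' ((Algebra.IsSeparable.isSeparable K (bK i)).map σ₀ σ₀.injective)

/-- `z` is defined at the place and has value in the given field. -/
def Good {KC Ω : Type u} [Field KC] [Field Ω] [Algebra K KC] [Algebra K Ω] {T : Subalgebra K KC}
    (χ : T →ₐ[K] Ω) (F : Subfield Ω) (z : KC) : Prop :=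
  ∃ h : z ∈ T, χ ⟨z, h⟩ ∈ F

section Good

variable {KC Ω : Type u} [Field KC] [Field Ω] [Algebra K KC] [Algebra K Ω] {T : Subalgebra K KC}
  {χ : T →ₐ[K] Ω} {F : Subfield Ω}

lemma Good.add {a b : KC} (ha : Good χ F a) (hb : Good χ F b) : Good χ F (a + b) :=
  ⟨add_mem ha.1 hb.1, by
    rw [show (⟨a + b, add_mem ha.1 hb.1⟩ : T) = ⟨a, ha.1⟩ + ⟨b, hb.1⟩ from rfl, map_add]
    exact add_mem ha.2 hb.2⟩

lemma Good.mul {a b : KC} (ha : Good χ F a) (hb : Good χ F b) : Good χ F (a * b) :=
  ⟨mul_mem ha.1 hb.1, by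
    rw [show (⟨a * b, mul_mem ha.1 hb.1⟩ : T) = ⟨a, ha.1⟩ * ⟨b, hb.1⟩ from rfl, map_mul]
    exact mul_mem ha.2 hb.2⟩

lemma Good.zero : Good χ F 0 :=
  ⟨zero_mem T, by rw [show (⟨0, zero_mem T⟩ : T) = 0 from rfl, map_zero]; exact zero_mem F⟩

lemma Good.one : Good χ F 1 :=
  ⟨one_mem T, by rw [show (⟨1, one_mem T⟩ : T) = 1 from rfl, map_one]; exact one_mem F⟩

lemma Good.inv {a : KC} (ha : Good χ F a) (hi : a⁻¹ ∈ T) : Good χ F a⁻¹ := by
  rcases eq_or_ne a 0 with rfl | h0
  · rw [inv_zero]; exact Good.zero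
  refine ⟨hi, ?_⟩
  have : χ ⟨a, ha.1⟩ * χ ⟨a⁻¹, hi⟩ = 1 := by
    rw [← map_mul, ← map_one χ]
    exact congrArg χ (Subtype.ext (mul_inv_cancel₀ h0))
  rw [eq_inv_of_mul_eq_one_right this]
  exact inv_mem ha.2

lemma Good.finset_sum {ι : Type*} (s : Finset ι) (f : ι → KC) (hf : ∀ i ∈ s, Good χ F (f i)) : Good χ F (∑ i ∈ s, f i) :=
  Finset.sum_induction f _ (fun _ _ => Good.add) Good.zero hf

lemma Good.finset_prod {ι : Type*} (s : Finset ι) (f : ι → KC) (hf : ∀ i ∈ s, Good χ F (f i)) : Good χ F (∏ i ∈ s, f i) :=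
  Finset.prod_induction f _ (fun _ _ => Good.mul) Good.one hf

lemma Good.pow {a : KC} (ha : Good χ F a) (n : ℕ) : Good χ F (a ^ n) := by
  induction n with
  | zero => simpa using Good.one
  | succ n ih => rw [pow_succ]; exact ih.mul ha

end Good

/-- The value of a separable element is separable. -/
lemma isSeparable_value {KC Ω : Type u} [Field KC] [Field Ω] [Algebra K KC] [Algebra K Ω] {T : Subalgebra K KC}
    (χ : T →ₐ[K] Ω) (z : T) (hz : IsSeparable K (z : KC)) : IsSeparable K (χ z) := by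
  refine Polynomial.Separable.of_dvd hz (minpoly.dvd K _ ?_)
  have h0 : Polynomial.aeval z (minpoly K (z : KC)) = 0 := Subtype.val_injective (by
    exact ((Polynomial.aeval_subalgebra_coe (minpoly K (z : KC)) T z).trans (minpoly.aeval K (z : KC))))
  rw [Polynomial.aeval_algHom_apply, h0, map_zero]

theorem descend_aux {KC : Type u} [Field KC] [Algebra k KC] [Algebra K KC] [Algebra K' KC] [Algebra L KC]
    [IsScalarTower k K KC] [IsScalarTower k L KC] [IsScalarTower K K' KC] [IsScalarTower L K' KC]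
    [Module.Finite K' KC] {KB : Type u} [Field KB] [Algebra L KB] [Algebra KB KC] [IsScalarTower L KB KC]
    (t : KC) [Module.Finite (IntermediateField.adjoin KB ({t} : Set KC)) KC]
    (h : IsCompositum k K L K') (hfg : (⊤ : IntermediateField k K).FG)
    (htr : Algebra.trdeg L KB + 1 = Algebra.trdeg k K) :
    ∃ e ≤ Module.finrank (IntermediateField.adjoin KB ({t} : Set KC)) KC, ∃ D : CovDiag.{u} k K e,
      (Algebra.IsSeparable K KC → Algebra.IsSeparable K D.KC) := by
  have hfin : Algebra.trdeg k K < ℵ₀ := trdeg_lt_aleph0_of_fg hfg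
  have hN : Algebra.trdeg L KB < ℵ₀ := lt_of_le_of_lt le_self_add (htr ▸ hfin)
  -- transcendence bases
  obtain ⟨sx, hsx⟩ := exists_isTranscendenceBasis k K
  obtain ⟨sy, hsy⟩ := exists_isTranscendenceBasis L KB
  haveI hfx : Finite sx := Cardinal.lt_aleph0_iff_finite.1 (hsx.cardinalMk_eq_trdeg.trans_lt hfin)
  haveI hfy : Finite sy := Cardinal.lt_aleph0_iff_finite.1 (hsy.cardinalMk_eq_trdeg.trans_lt hN)
  have hxL : AlgebraicIndependent L (algebraMap K KC ∘ (Subtype.val : sx → K)) := by
    have := (h.indep _ hsx.1).map' (f := IsScalarTower.toAlgHom L K' KC) (algebraMap K' KC).injective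
    rwa [← Function.comp_assoc, show (IsScalarTower.toAlgHom L K' KC : K' → KC) ∘ algebraMap K K' = algebraMap K KC
      from funext fun a => (IsScalarTower.algebraMap_apply K K' KC a).symm] at this
  have hKC : Algebra.IsAlgebraic (Algebra.adjoin L (Set.range (algebraMap K KC ∘ (Subtype.val : sx → K)))) KC := by
    refine (AlgebraicIndependent.isTranscendenceBasis_of_trdeg_le_of_finite hxL ?_).isAlgebraic
    have h1 : Algebra.trdeg L K' + Algebra.trdeg K' KC = Algebra.trdeg L KC := trdeg_add_eq L K'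
    rw [trdeg_eq_zero (R := K') (A := KC), add_zero, h.trdeg_eq] at h1
    rw [← h1, hsx.cardinalMk_eq_trdeg]
  -- controlling membership in `KB(t)`
  have hctrl : ∀ q ∈ IntermediateField.adjoin KB ({t} : Set KC), ∃ (Z0 : Finset KC) (B0 : Finset KB),
      ∀ (Ω : Type u) (_ : Field Ω) (_ : Algebra K Ω) (T : Subalgebra K KC) (χ : T →ₐ[K] Ω) (F : Subfield Ω),
        (∀ z ∈ Z0, z ∈ T) → Good χ F t → (∀ b ∈ B0, Good χ F (algebraMap KB KC b)) → Good χ F q := fun q hq => by
    induction hq using IntermediateField.adjoin_induction with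
    | mem x hx => exact ⟨∅, ∅, fun _ _ _ _ _ _ _ ht _ => Set.mem_singleton_iff.1 hx ▸ ht⟩
    | algebraMap b => exact ⟨∅, {b}, fun _ _ _ _ _ _ _ _ hb => hb b (Finset.mem_singleton_self b)⟩
    | add x y _ _ hx hy =>
      obtain ⟨Z1, B1, h1⟩ := hx
      obtain ⟨Z2, B2, h2⟩ := hy
      exact ⟨Z1 ∪ Z2, B1 ∪ B2, fun Ω i1 i2 T χ F hZ ht hB =>
        (h1 Ω i1 i2 T χ F (fun z hz => hZ z (Finset.mem_union_left _ hz)) ht fun b hb => hB b (Finset.mem_union_left _ hb)).add
        (h2 Ω i1 i2 T χ F (fun z hz => hZ z (Finset.mem_union_right _ hz)) ht fun b hb => hB b (Finset.mem_union_right _ hb))⟩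
    | inv x _ hx =>
      obtain ⟨Z1, B1, h1⟩ := hx
      exact ⟨insert x⁻¹ Z1, B1, fun Ω i1 i2 T χ F hZ ht hB =>
        (h1 Ω i1 i2 T χ F (fun z hz => hZ z (Finset.mem_insert_of_mem hz)) ht hB).inv (hZ _ (Finset.mem_insert_self _ _))⟩
    | mul x y _ _ hx hy =>
      obtain ⟨Z1, B1, h1⟩ := hx
      obtain ⟨Z2, B2, h2⟩ := hy
      exact ⟨Z1 ∪ Z2, B1 ∪ B2, fun Ω i1 i2 T χ F hZ ht hB =>
        (h1 Ω i1 i2 T χ F (fun z hz => hZ z (Finset.mem_union_left _ hz)) ht fun b hb => hB b (Finset.mem_union_left _ hb)).mul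
        (h2 Ω i1 i2 T χ F (fun z hz => hZ z (Finset.mem_union_right _ hz)) ht fun b hb => hB b (Finset.mem_union_right _ hb))⟩
  choose Zf Bf hZBf using hctrl
  let bas := Module.Free.chooseBasis (IntermediateField.adjoin KB ({t} : Set KC)) KC
  obtain ⟨gens, hgens⟩ := hfg
  -- the elements whose expansions are needed
  let targets : Finset KC := insert 1 ((Finset.univ.image fun p : _ × _ => bas p.1 * bas p.2) ∪ gens.image (algebraMap K KC))
  let coefs : Finset (IntermediateField.adjoin KB ({t} : Set KC)) :=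
    targets.biUnion fun z => Finset.univ.image fun i => bas.repr z i
  haveI : Fintype sy := Fintype.ofFinite sy
  let B1 : Finset KB := (Finset.univ.image (Subtype.val : sy → KB)) ∪ coefs.biUnion fun q => Bf q.1 q.2
  have hrel : ∀ b : KB, ∃ P : Polynomial (MvPolynomial sy L), P ≠ 0 ∧
      P.eval₂ (MvPolynomial.aeval (Subtype.val : sy → KB)).toRingHom b = 0 := fun b => by
    haveI := hsy.isAlgebraic
    exact exists_rel hsy.1 (Algebra.IsAlgebraic.isAlgebraic b)
  choose P hP0 hPb using hrel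
  let ev : MvPolynomial sy L →+* KC :=
    (algebraMap KB KC).comp (MvPolynomial.aeval (Subtype.val : sy → KB)).toRingHom
  let Λ : Finset L := B1.biUnion fun b => (P b).support.biUnion fun i => ((P b).coeff i).coeffs
  let Z : Finset KC := insert t ((Finset.univ.image bas) ∪ (coefs.biUnion fun q => Zf q.1 q.2) ∪
    B1.image (algebraMap KB KC) ∪ B1.image fun b => (ev (P b).leadingCoeff)⁻¹)
  obtain ⟨Ω, _, _, _, _, T, χ, hZ, hΛ⟩ := exists_place (Subtype.val : sx → K) hsx.1 hxL
    (fun a => by haveI := hsx.isAlgebraic; exact Algebra.IsAlgebraic.isAlgebraic a) (fun z => hKC.1 z) Z Λ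
  -- the values
  have hbasT : ∀ i, ∃ h : bas i ∈ T, IsAlgebraic K (χ ⟨_, h⟩) := fun i => hZ _ (by simp [Z])
  have hbT : ∀ b ∈ B1, ∃ h : algebraMap KB KC b ∈ T, IsAlgebraic K (χ ⟨_, h⟩) := fun b hb => hZ _ (by
    simp only [Z, Finset.mem_insert, Finset.mem_union, Finset.mem_image]
    exact Or.inr (Or.inl (Or.inr ⟨b, hb, rfl⟩)))
  obtain ⟨htT, htalg⟩ := hZ t (Finset.mem_insert_self _ _)
  let GB : Set Ω := Set.range fun b : B1 => χ ⟨_, (hbT b.1 b.2).1⟩
  let G : Set Ω := insert (χ ⟨t, htT⟩) (GB ∪ Set.range fun i => χ ⟨_, (hbasT i).1⟩)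
  haveI : Finite G := (((Set.finite_range _).union (Set.finite_range _)).insert _).to_subtype
  have hGalg : ∀ x ∈ G, IsAlgebraic K x := by
    rintro x (rfl | ⟨b, rfl⟩ | ⟨i, rfl⟩)
    · exact htalg
    · exact (hbT b.1 b.2).2
    · exact (hbasT i).2
  let KC' := IntermediateField.adjoin K G
  haveI : FiniteDimensional K KC' := IntermediateField.finiteDimensional_adjoin fun x hx => (hGalg x hx).isIntegral
  have hGmem : ∀ x ∈ G, x ∈ KC' := fun x hx => IntermediateField.subset_adjoin _ _ hx
  let cv : _ → KC' := fun i => ⟨χ ⟨_, (hbasT i).1⟩, hGmem _ (Or.inr (Or.inr ⟨i, rfl⟩))⟩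
  let bv : B1 → KC' := fun b => ⟨χ ⟨_, (hbT b.1 b.2).1⟩, hGmem _ (Or.inr (Or.inl ⟨b, rfl⟩))⟩
  let tv : KC' := ⟨χ ⟨t, htT⟩, hGmem _ (Or.inl rfl)⟩
  let KB' : IntermediateField k KC' := IntermediateField.adjoin k (Set.range bv)
  let F' := IntermediateField.adjoin KB' ({tv} : Set KC')
  let FΩ : Subfield Ω := F'.toSubfield.map KC'.val.toRingHom
  have hmemF : ∀ b : KB', (b : KC') ∈ F' := fun b => F'.algebraMap_mem b
  have hgt : Good χ FΩ t := ⟨htT, ⟨tv, IntermediateField.subset_adjoin _ _ rfl, rfl⟩⟩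
  have hgb : ∀ b ∈ B1, Good χ FΩ (algebraMap KB KC b) := fun b hb =>
    ⟨(hbT b hb).1, ⟨bv ⟨b, hb⟩, hmemF ⟨_, IntermediateField.subset_adjoin _ _ ⟨⟨b, hb⟩, rfl⟩⟩, rfl⟩⟩
  have hgq : ∀ q ∈ coefs, Good χ FΩ (q : KC) := fun q hq =>
    hZBf q.1 q.2 Ω _ _ T χ FΩ
      (fun z hz => (hZ z (by
        simp only [Z, Finset.mem_insert, Finset.mem_union, Finset.mem_biUnion]
        exact Or.inr (Or.inl (Or.inl (Or.inr ⟨q, hq, hz⟩))))).1)
      hgt fun b hb => hgb b (Finset.mem_union_right _ (Finset.mem_biUnion.2 ⟨q, hq, hb⟩))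
  -- expansions
  have hexp : ∀ z ∈ targets, ∀ hz : z ∈ T, ∃ w ∈ Submodule.span F' (Set.range cv), (w : Ω) = χ ⟨z, hz⟩ := by
    intro z hz hzT
    have hq : ∀ i, Good χ FΩ (bas.repr z i : KC) := fun i =>
      hgq _ (Finset.mem_biUnion.2 ⟨z, hz, Finset.mem_image.2 ⟨i, Finset.mem_univ _, rfl⟩⟩)
    choose f hf hfe using fun i => (hq i).2
    refine ⟨∑ i, f i * cv i, Submodule.sum_mem _ fun i _ =>
      Submodule.smul_mem _ (⟨f i, hf i⟩ : F') (Submodule.subset_span ⟨i, rfl⟩), ?_⟩
    have hsum : (⟨z, hzT⟩ : T) = ∑ i, (⟨_, (hq i).1⟩ : T) * ⟨_, (hbasT i).1⟩ := Subtype.ext (by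
      rw [AddSubmonoidClass.coe_finsetSum]
      exact (bas.sum_repr z).symm.trans rfl)
    rw [hsum, map_sum, AddSubmonoidClass.coe_finsetSum]
    exact Finset.sum_congr rfl fun i _ => by rw [map_mul, ← hfe i]; rfl
  have h1 : (1 : KC') ∈ Submodule.span F' (Set.range cv) := by
    obtain ⟨w, hw, he⟩ := hexp 1 (Finset.mem_insert_self _ _) (one_mem T)
    have : w = 1 := Subtype.ext (he.trans (map_one χ))
    rwa [← this]
  have hmul : ∀ i j, cv i * cv j ∈ Submodule.span F' (Set.range cv) := fun i j => by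
    obtain ⟨w, hw, he⟩ := hexp (bas i * bas j) (Finset.mem_insert_of_mem (Finset.mem_union_left _
      (Finset.mem_image.2 ⟨(i, j), Finset.mem_univ _, rfl⟩))) (mul_mem (hbasT i).1 (hbasT j).1)
    have : w = cv i * cv j := Subtype.ext (he.trans (map_mul χ ⟨_, (hbasT i).1⟩ ⟨_, (hbasT j).1⟩))
    rwa [← this]
  obtain ⟨W, hW, -, -⟩ := exists_fieldSpan cv h1 hmul
  have hWK : ∀ a : K, algebraMap K KC' a ∈ W := fun a => by
    have ha : a ∈ IntermediateField.adjoin k (gens : Set K) := hgens ▸ IntermediateField.mem_top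
    induction ha using IntermediateField.adjoin_induction with
    | mem x hx =>
      obtain ⟨w, hw, he⟩ := hexp (algebraMap K KC x) (Finset.mem_insert_of_mem (Finset.mem_union_right _
        (Finset.mem_image.2 ⟨x, hx, rfl⟩))) (T.algebraMap_mem x)
      have : w = algebraMap K KC' x := Subtype.ext (he.trans (χ.commutes x))
      rw [← SetLike.mem_coe, hW, ← this]
      exact hw
    | algebraMap c =>
      rw [← IsScalarTower.algebraMap_apply]
      exact W.algebraMap_mem (⟨_, hmemF ⟨_, KB'.algebraMap_mem c⟩⟩ : F')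
    | add x y _ _ hx hy => rw [map_add]; exact add_mem hx hy
    | inv x _ hx => rw [map_inv₀]; exact inv_mem hx
    | mul x y _ _ hx hy => rw [map_mul]; exact mul_mem hx hy
  have htop : Submodule.span F' (Set.range cv) = ⊤ := by
    refine Submodule.eq_top_iff'.2 fun z => ?_
    rw [← SetLike.mem_coe, ← hW]
    obtain ⟨z, hz⟩ := z
    induction hz using IntermediateField.adjoin_induction with
    | mem x hx =>
      rcases hx with rfl | ⟨b, rfl⟩ | ⟨i, rfl⟩
      · exact W.algebraMap_mem (⟨tv, IntermediateField.subset_adjoin _ _ rfl⟩ : F')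
      · exact W.algebraMap_mem (⟨bv b, hmemF ⟨_, IntermediateField.subset_adjoin _ _ ⟨b, rfl⟩⟩⟩ : F')
      · rw [hW]; exact Submodule.subset_span ⟨i, rfl⟩
    | algebraMap a => exact hWK a
    | add x y hx hy hx' hy' => exact add_mem hx' hy'
    | inv x hx hx' => exact inv_mem hx'
    | mul x y hx hy hx' hy' => exact mul_mem hx' hy'
  -- the base field has small transcendence degree
  have hyB : ∀ i : sy, (i : KB) ∈ B1 := fun i => Finset.mem_union_left _ (Finset.mem_image.2 ⟨i, Finset.mem_univ _, rfl⟩)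
  have hKB : Algebra.trdeg k KB' ≤ Algebra.trdeg L KB := by
    let gv : Set Ω := Set.range fun i : sy => χ ⟨_, (hbT i.1 (hyB i)).1⟩
    let E := IntermediateField.adjoin k gv
    let EC : Subfield Ω := (algebraicClosure E Ω).toSubfield
    have hECk : ∀ x : Ω, IsAlgebraic k x → x ∈ EC := fun x hx => mem_algebraicClosure_iff.2 (hx.tower_top E)
    have hmon : ∀ b ∈ B1, ∀ i ∈ (P b).support, Good χ EC (ev ((P b).coeff i)) := fun b hb i hi => by
      rw [MvPolynomial.as_sum ((P b).coeff i), map_sum]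
      refine Good.finset_sum _ _ fun d hd => ?_
      rw [MvPolynomial.monomial_eq, map_mul, Finsupp.prod, map_prod]
      refine Good.mul ?_ (Good.finset_prod _ _ fun j _ => ?_)
      · have hl : ev (MvPolynomial.C (MvPolynomial.coeff d ((P b).coeff i))) =
            algebraMap L KC (MvPolynomial.coeff d ((P b).coeff i)) := by simp [ev, ← IsScalarTower.algebraMap_apply]
        rw [hl]
        obtain ⟨hm, halg⟩ := hΛ _ (Finset.mem_biUnion.2 ⟨b, hb, Finset.mem_biUnion.2 ⟨i, hi,
          Finset.mem_image.2 ⟨d, hd, rfl⟩⟩⟩)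
        exact ⟨hm, hECk _ halg⟩
      · rw [map_pow]
        refine Good.pow ?_ _
        rw [show ev (MvPolynomial.X j) = algebraMap KB KC j by simp [ev]]
        exact ⟨(hbT j.1 (hyB j)).1, mem_algebraicClosure_iff.2
          (isAlgebraic_algebraMap (⟨_, IntermediateField.subset_adjoin k gv ⟨j, rfl⟩⟩ : E))⟩
    have hroot : ∀ b (hb : b ∈ B1), IsAlgebraic E (χ ⟨_, (hbT b hb).1⟩) := fun b hb => by
      set beta : T := ⟨_, (hbT b hb).1⟩ with hbeta
      let w : ℕ → T := fun i => if hi : i ∈ (P b).support then ⟨_, (hmon b hb i hi).1⟩ else 0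
      let ECi := algebraicClosure E Ω
      let wE : ℕ → ECi := fun i => if hi : i ∈ (P b).support then ⟨_, (hmon b hb i hi).2⟩ else 0
      have hsum : ∑ i ∈ (P b).support, w i * beta ^ i = 0 := Subtype.ext (by
        rw [AddSubmonoidClass.coe_finsetSum, Subalgebra.coe_zero]
        refine Eq.trans ?_ (congrArg (algebraMap KB KC) (hPb b) |>.trans (map_zero _))
        rw [Polynomial.hom_eval₂, Polynomial.eval₂_eq_sum, Polynomial.sum]
        exact Finset.sum_congr rfl fun i hi => by simp only [w, dif_pos hi]; rfl)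
      have hlc : (P b).natDegree ∈ (P b).support := Polynomial.natDegree_mem_support_of_nonzero (hP0 b)
      have hne : wE (P b).natDegree ≠ 0 := fun h0 => by
        have hinv : (ev (P b).leadingCoeff)⁻¹ ∈ T := (hZ _ (by
          simp only [Z, Finset.mem_insert, Finset.mem_union, Finset.mem_image]
          exact Or.inr (Or.inr ⟨b, hb, rfl⟩))).1
        have hev : ev (P b).leadingCoeff ≠ 0 := fun h => Polynomial.leadingCoeff_ne_zero.2 (hP0 b)
          ((algebraicIndependent_iff_injective_aeval.1 hsy.1) ((algebraMap KB KC).injective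
            (h.trans (map_zero _).symm) |>.trans (map_zero _).symm))
        simp only [wE, dif_pos hlc, Subtype.ext_iff] at h0
        have h1 : χ ⟨_, (hmon b hb _ hlc).1⟩ * χ ⟨_, hinv⟩ = 1 := by
          rw [← map_mul, ← map_one χ]
          exact congrArg χ (Subtype.ext (mul_inv_cancel₀ hev))
        rw [show χ ⟨_, (hmon b hb _ hlc).1⟩ = 0 from h0, zero_mul] at h1
        exact zero_ne_one h1
      let p : Polynomial ECi := ∑ i ∈ (P b).support, Polynomial.C (wE i) * Polynomial.X ^ i
      have hp : IsAlgebraic ECi (χ beta) := by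
        refine ⟨p, fun h0 => hne ?_, ?_⟩
        · have := congrArg (Polynomial.coeff · (P b).natDegree) h0
          simpa [p, Polynomial.finset_sum_coeff, Polynomial.coeff_C_mul, Polynomial.coeff_X_pow, hlc] using this
        · simp only [p, map_sum, map_mul, map_pow, Polynomial.aeval_C, Polynomial.aeval_X]
          refine Eq.trans ?_ ((congrArg χ hsum).trans (map_zero χ))
          rw [map_sum]
          refine Finset.sum_congr rfl fun i hi => ?_
          rw [map_mul, map_pow]
          simp only [w, wE, dif_pos hi]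
          rfl
      exact hp.restrictScalars E
    let GΩ : Set Ω := Set.range fun b : B1 => χ ⟨_, (hbT b.1 b.2).1⟩
    have hle : Algebra.trdeg k (IntermediateField.adjoin k GΩ) ≤ #gv :=
      trdeg_adjoin_le gv GΩ (by rintro _ ⟨i, rfl⟩; exact ⟨⟨i.1, hyB i⟩, rfl⟩)
        (by rintro _ ⟨b, rfl⟩; exact hroot b.1 b.2)
    let vmap : KB' →ₐ[k] IntermediateField.adjoin k GΩ :=
      (((KC'.val.restrictScalars k).comp KB'.val).codRestrict (IntermediateField.adjoin k GΩ).toSubalgebra fun x => by
        have : KB'.map (KC'.val.restrictScalars k) = IntermediateField.adjoin k GΩ := by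
          rw [IntermediateField.adjoin_map, ← Set.range_comp]
          rfl
        rw [← this]
        exact ⟨x, x.2, rfl⟩)
    refine (trdeg_le_of_injective vmap vmap.toRingHom.injective).trans (hle.trans ?_)
    exact mk_range_le.trans hsy.cardinalMk_eq_trdeg.le
  obtain ⟨e, he, D, hD⟩ := exists_diag KB' tv cv htop hN hKB htr.symm
  refine ⟨e, he.trans (le_of_eq (Module.finrank_eq_card_chooseBasisIndex _ _).symm), D,
    fun hsep => hD ((IntermediateField.isSeparable_adjoin_iff_isSeparable K _).2 ?_)⟩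
  have hval : ∀ (z : KC) (hz : z ∈ T), IsSeparable K (χ ⟨z, hz⟩) := fun z hz =>
    isSeparable_value χ ⟨z, hz⟩ (Algebra.IsSeparable.isSeparable K z)
  rintro x (rfl | ⟨b, rfl⟩ | ⟨i, rfl⟩) <;> exact hval _ _

theorem descend (h : IsCompositum k K L K') (hfg : (⊤ : IntermediateField k K).FG) {e : ℕ} (D : CovDiag.{u} L K' e) :
    ∃ e' ≤ e, ∃ D' : CovDiag.{u} k K e',
      Algebra.IsSeparable K K' → Algebra.IsSeparable K' D.KC → Algebra.IsSeparable K D'.KC := by
  letI : Algebra K D.KC := ((algebraMap K' D.KC).comp (algebraMap K K')).toAlgebra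
  letI : Algebra k D.KC := ((algebraMap K' D.KC).comp (algebraMap k K')).toAlgebra
  haveI : IsScalarTower K K' D.KC := IsScalarTower.of_algebraMap_eq' rfl
  haveI : IsScalarTower k K D.KC := IsScalarTower.of_algebraMap_eq fun c =>
    congrArg (algebraMap K' D.KC) (IsScalarTower.algebraMap_apply k K K' c)
  haveI : IsScalarTower k L D.KC := IsScalarTower.of_algebraMap_eq fun c => by
    rw [IsScalarTower.algebraMap_apply L K' D.KC, ← IsScalarTower.algebraMap_apply k L K']
    rfl
  obtain ⟨e', he', D', hD'⟩ := descend_aux (KB := D.KB) D.t h hfg ((diag_trdeg D).trans h.trdeg_eq)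
  exact ⟨e', he'.trans D.finrank_eq.le, D', fun h1 h2 => hD' (Algebra.IsSeparable.trans K K' D.KC)⟩

/-- Equality of the infima from the two comparisons. -/
lemma sInf_eq {S S' : Set ℕ} (h1 : ∀ e ∈ S, ∃ e' ≤ e, e' ∈ S') (h2 : ∀ e ∈ S', ∃ e' ≤ e, e' ∈ S) : sInf S' = sInf S := by
  rcases S.eq_empty_or_nonempty with rfl | hS
  · rw [show S' = ∅ from Set.eq_empty_iff_forall_notMem.2 fun e he => by obtain ⟨e', -, h⟩ := h2 e he; exact h]
  obtain ⟨e1, he1, h1'⟩ := h1 _ (Nat.sInf_mem hS)
  obtain ⟨e2, he2, h2'⟩ := h2 _ (Nat.sInf_mem ⟨e1, h1'⟩)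
  exact le_antisymm ((Nat.sInf_le h1').trans he1) ((Nat.sInf_le h2').trans he2)

theorem cvg_eq (h : IsCompositum k K L K') (hfg : (⊤ : IntermediateField k K).FG) : cvg L K' = cvg k K :=
  sInf_eq
    (fun e ⟨D⟩ => by obtain ⟨e', he, D', -⟩ := push h hfg D; exact ⟨e', he, ⟨D'⟩⟩)
    (fun e ⟨D⟩ => by obtain ⟨e', he, D', -⟩ := descend h hfg D; exact ⟨e', he, ⟨D'⟩⟩)

theorem scvg_eq (h : IsCompositum k K L K') (hfg : (⊤ : IntermediateField k K).FG) [Algebra.IsSeparable K K'] :
    scvg L K' = scvg k K :=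
  sInf_eq
    (fun e ⟨D, hD⟩ => by obtain ⟨e', he, D', hD'⟩ := push h hfg D; exact ⟨e', he, D', hD' hD⟩)
    (fun e ⟨D, hD⟩ => by obtain ⟨e', he, D', hD'⟩ := descend h hfg D; exact ⟨e', he, D', hD' inferInstance hD⟩)

theorem IsCompositum.isSeparable (h : IsCompositum k K L K') [Algebra.IsSeparable k L] : Algebra.IsSeparable K K' := by
  have hgen : IntermediateField.adjoin K (Set.range (algebraMap L K')) = ⊤ := by
    rw [eq_top_iff]
    intro a ha'
    clear ha'
    have ha : a ∈ IntermediateField.adjoin L (Set.range (algebraMap K K')) := h.gen ▸ IntermediateField.mem_top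
    induction ha using IntermediateField.adjoin_induction with
    | mem x hx => obtain ⟨y, rfl⟩ := hx; exact IntermediateField.algebraMap_mem _ y
    | algebraMap l => exact IntermediateField.subset_adjoin _ _ ⟨l, rfl⟩
    | add x y _ _ hx hy => exact add_mem hx hy
    | inv x _ hx => exact inv_mem hx
    | mul x y _ _ hx hy => exact mul_mem hx hy
  have hsep : Algebra.IsSeparable K (IntermediateField.adjoin K (Set.range (algebraMap L K'))) := by
    refine (IntermediateField.isSeparable_adjoin_iff_isSeparable K _).2 ?_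
    rintro _ ⟨l, rfl⟩
    exact IsSeparable.tower_top K
      ((Algebra.IsSeparable.isSeparable k l).map (IsScalarTower.toAlgHom k L K') (algebraMap L K').injective)
  rw [hgen] at hsep
  exact Algebra.IsSeparable.of_algHom K _ (IntermediateField.topEquiv (F := K) (E := K')).symm.toAlgHom

end Groth.Agent.CovGon
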