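import Groth.Agent.CovGon.Basic

/-!
Specialisation: a place of a field over `K` and `L` which is the identity on `K`, is defined on given
finitely many elements, and makes given finitely many elements of `L` algebraic over `k`.
-/

set_option autoImplicit false

universe u

open scoped Classical
set_option maxHeartbeats 400000

namespace Groth.Agent.CovGon

variable {k K L KC : Type u} [Field k] [Field K] [Field L] [Field KC] [Algebra k K] [Algebra k L] [Algebra k KC]
  [Algebra K KC] [Algebra L KC] [IsScalarTower k K KC] [IsScalarTower k L KC]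

/-- An element that is algebraic over an adjoin of independent elements is a root of a nonzero polynomial
with coefficients in the polynomial ring. -/
lemma exists_rel {ι : Type u} {R A : Type u} [CommRing R] [CommRing A] [Algebra R A] {x : ι → A}
    (hx : AlgebraicIndependent R x) {z : A} (hz : IsAlgebraic (Algebra.adjoin R (Set.range x)) z) :
    ∃ P : Polynomial (MvPolynomial ι R), P ≠ 0 ∧ P.eval₂ (MvPolynomial.aeval x).toRingHom z = 0 := by
  obtain ⟨p, hp0, hp⟩ := hz
  refine ⟨p.map hx.aevalEquiv.symm.toRingEquiv.toRingHom,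
    (Polynomial.map_ne_zero_iff hx.aevalEquiv.symm.injective).2 hp0, ?_⟩
  rw [Polynomial.eval₂_map]
  refine Eq.trans ?_ hp
  rw [Polynomial.aeval_def]
  refine congrArg (fun f => Polynomial.eval₂ f z p) (RingHom.ext fun a => ?_)
  obtain ⟨q, rfl⟩ := hx.aevalEquiv.surjective a
  show MvPolynomial.aeval x (hx.aevalEquiv.symm (hx.aevalEquiv q)) = _
  rw [AlgEquiv.symm_apply_apply]
  rfl

/-- Elements integral over a valuation subring belong to it. -/
lemma mem_valuationSubring_of_root {R : Type u} [CommRing R] (V : ValuationSubring KC) (φ : R →+* V)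
    {P : Polynomial R} (hu : IsUnit (φ P.leadingCoeff)) {z : KC}
    (hz : P.eval₂ (V.subtype.comp φ) z = 0) : z ∈ V := by
  obtain ⟨u, hu'⟩ := hu
  have hmon : (Polynomial.C (↑u⁻¹ : V) * P.map φ).Monic := by
    rw [Polynomial.Monic, Polynomial.leadingCoeff_mul, Polynomial.leadingCoeff_C,
      Polynomial.leadingCoeff_map_of_leadingCoeff_ne_zero φ (by rw [← hu']; exact u.ne_zero), ← hu', Units.inv_mul]
  have hint : IsIntegral V z := ⟨_, hmon, by
    rw [Polynomial.eval₂_mul, Polynomial.eval₂_map]
    exact mul_eq_zero_of_right _ hz⟩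
  obtain ⟨y, rfl⟩ := IsIntegrallyClosed.isIntegral_iff.1 hint
  exact y.2

/-- A valuation ring dominating a prime of a subring. -/
lemma exists_valuation {R : Type u} [CommRing R] (φ : R →+* KC) (hφ : Function.Injective φ) (P : Ideal R) [P.IsPrime] :
    ∃ (V : ValuationSubring KC) (Ω : Type u) (_ : Field Ω) (π : V →+* Ω) (g : R →+* V),
      V.subtype.comp g = φ ∧ (∀ a, a ∉ P → IsUnit (g a)) ∧ ∀ a ∈ P, π (g a) = 0 := by
  have hunit : ∀ a : P.primeCompl, IsUnit (φ a) := fun a =>
    isUnit_iff_ne_zero.2 fun h => a.2 (by rw [hφ (h.trans (map_zero φ).symm)]; exact P.zero_mem)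
  let f : Localization.AtPrime P →+* KC := IsLocalization.lift (M := P.primeCompl) hunit
  obtain ⟨V, hV, hloc⟩ := IsLocalRing.exists_factor_valuationRing (R := Localization.AtPrime P) f
  let g : R →+* V := (f.codRestrict V.toSubring hV).comp (algebraMap R (Localization.AtPrime P))
  refine ⟨V, IsLocalRing.ResidueField V, inferInstance, IsLocalRing.residue V, g,
    RingHom.ext fun a => IsLocalization.lift_eq hunit a, fun a ha =>
      (IsLocalization.map_units (Localization.AtPrime P) (⟨a, ha⟩ : P.primeCompl)).map (f.codRestrict V.toSubring hV),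
    fun a ha => ?_⟩
  refine (IsLocalRing.residue_eq_zero_iff _).2 ((IsLocalRing.mem_maximalIdeal _).2 fun hu => ?_)
  have := hloc.map_nonunit _ hu
  exact (IsLocalization.AtPrime.isUnit_to_map_iff _ P a).1 this ha

theorem exists_place {ι : Type u} (x : ι → K) (hx : AlgebraicIndependent k x)
    (hxL : AlgebraicIndependent L (algebraMap K KC ∘ x))
    (hK : ∀ a : K, IsAlgebraic (Algebra.adjoin k (Set.range x)) a)
    (hKC : ∀ z : KC, IsAlgebraic (Algebra.adjoin L (Set.range (algebraMap K KC ∘ x))) z)
    (Z : Finset KC) (B : Finset L) :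
    ∃ (Ω : Type u) (_ : Field Ω) (_ : Algebra k Ω) (_ : Algebra K Ω) (_ : IsScalarTower k K Ω)
      (T : Subalgebra K KC) (χ : T →ₐ[K] Ω),
      (∀ z ∈ Z, ∃ h : z ∈ T, IsAlgebraic K (χ ⟨z, h⟩)) ∧
        ∀ b ∈ B, ∃ h : algebraMap L KC b ∈ T, IsAlgebraic k (χ ⟨_, h⟩) := by
  -- relations for the elements of `Z`
  have hrel : ∀ z : KC, ∃ P : Polynomial (MvPolynomial ι L), P ≠ 0 ∧
      P.eval₂ (MvPolynomial.aeval (algebraMap K KC ∘ x)).toRingHom z = 0 := fun z => exists_rel hxL (hKC z)
  choose P hP0 hPz using hrel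
  -- a finitely generated ring of coefficients
  let C : Finset L := B ∪ Z.biUnion fun z => (P z).support.biUnion fun i => ((P z).coeff i).coeffs
  let S : Subalgebra k L := Algebra.adjoin k (C : Set L)
  haveI hSft : Algebra.FiniteType k S := S.fg_iff_finiteType.1 (Subalgebra.fg_adjoin_finset C)
  let inc : MvPolynomial ι S →+* MvPolynomial ι L := MvPolynomial.map S.val.toRingHom
  have hinc : Function.Injective inc := MvPolynomial.map_injective _ Subtype.val_injective
  have hlift : ∀ z ∈ Z, ∃ Q : Polynomial (MvPolynomial ι S), Q.map inc = P z := fun z hz => by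
    refine (Polynomial.mem_lifts _).1 ((Polynomial.lifts_iff_coeff_lifts _).2 fun i => ?_)
    refine MvPolynomial.mem_range_map_iff_coeffs_subset.2 fun c hc => ?_
    refine ⟨⟨c, ?_⟩, rfl⟩
    refine Algebra.subset_adjoin ?_
    by_cases hi : i ∈ (P z).support
    · exact Finset.mem_union_right _ (Finset.mem_biUnion.2 ⟨z, hz, Finset.mem_biUnion.2 ⟨i, hi, hc⟩⟩)
    · rw [Polynomial.notMem_support_iff.1 hi] at hc
      simp at hc
  choose Q hQ using hlift
  let G : MvPolynomial ι S := ∏ z ∈ Z.attach, (Q z.1 z.2).leadingCoeff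
  have hG : G ≠ 0 := Finset.prod_ne_zero_iff.2 fun z _ h => hP0 z.1 (by
    rw [← hQ z.1 z.2, Polynomial.leadingCoeff_eq_zero.1 h, Polynomial.map_zero])
  obtain ⟨d, hd⟩ := MvPolynomial.ne_zero_iff.1 hG
  -- a maximal ideal avoiding a coefficient of `G`
  obtain ⟨m, hm, hdm⟩ : ∃ m : Ideal S, m.IsMaximal ∧ MvPolynomial.coeff d G ∉ m := by
    haveI : IsJacobsonRing S := isJacobsonRing_of_finiteType (A := k)
    have hJ : (⊥ : Ideal S).jacobson = ⊥ := IsJacobsonRing.out inferInstance Ideal.isRadical_bot_of_noZeroDivisors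
    by_contra! h
    exact hd (Ideal.mem_bot.1 (hJ ▸ Submodule.mem_sInf.2 fun J hJ' => h J hJ'.2))
  letI := Ideal.Quotient.field m
  haveI : Module.Finite k (S ⧸ m) := finite_of_finite_type_of_isJacobsonRing k (S ⧸ m)
  let P₀ : Ideal (MvPolynomial ι S) := RingHom.ker (MvPolynomial.map (Ideal.Quotient.mk m))
  haveI : P₀.IsPrime := RingHom.ker_isPrime _
  let φ : MvPolynomial ι S →+* KC := (MvPolynomial.aeval (algebraMap K KC ∘ x)).toRingHom.comp inc
  have hφ : Function.Injective φ := fun a b h => hinc (algebraicIndependent_iff_injective_aeval.1 hxL h)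
  obtain ⟨V, Ω, _, π, g, hg, hgunit, hgz⟩ := exists_valuation φ hφ P₀
  let res : MvPolynomial ι S →+* Ω := π.comp g
  have hgzero : ∀ a ∈ P₀, res a = 0 := hgz
  -- `K` lies in the valuation ring
  have hxS : ∀ i, φ (MvPolynomial.X i) = algebraMap K KC (x i) := fun i => by simp [φ, inc]
  have hkS : ∀ c : k, φ (MvPolynomial.C (algebraMap k S c)) = algebraMap k KC c := fun c => by
    simp [φ, inc, ← IsScalarTower.algebraMap_apply]
  have hKV : ∀ a : K, algebraMap K KC a ∈ V := fun a => by
    obtain ⟨p, hp0, hp⟩ := exists_rel hx (hK a)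
    let j : MvPolynomial ι k →+* MvPolynomial ι S := MvPolynomial.map (algebraMap k S)
    have hj : ∀ q, q ≠ 0 → j q ∉ P₀ := fun q hq hmem => hq (by
      have h0 : (MvPolynomial.map (Ideal.Quotient.mk m)) (j q) = 0 := hmem
      rw [MvPolynomial.map_map] at h0
      exact MvPolynomial.map_injective _ (RingHom.injective _) (h0.trans (map_zero _).symm))
    have hjinj : Function.Injective j := MvPolynomial.map_injective _ (RingHom.injective _)
    refine mem_valuationSubring_of_root V g (P := p.map j) ?_ ?_
    · rw [Polynomial.leadingCoeff_map_of_injective hjinj]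
      exact hgunit _ (hj _ (Polynomial.leadingCoeff_ne_zero.2 hp0))
    · rw [hg, Polynomial.eval₂_map]
      have : φ.comp j = (algebraMap K KC).comp (MvPolynomial.aeval x).toRingHom :=
        MvPolynomial.ringHom_ext (fun c => by
          simp only [RingHom.comp_apply, j, MvPolynomial.map_C, hkS]
          simp [← IsScalarTower.algebraMap_apply])
          fun i => by simp only [RingHom.comp_apply, j, MvPolynomial.map_X, hxS]; simp
      rw [this, ← Polynomial.hom_eval₂, hp, map_zero]
  let T : Subalgebra K KC := { V.toSubring with algebraMap_mem' := hKV }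
  let kaK : K →+* Ω := π.comp ((algebraMap K KC).codRestrict V.toSubring hKV)
  letI : Algebra K (Ω) := kaK.toAlgebra
  letI : Algebra k (Ω) := (kaK.comp (algebraMap k K)).toAlgebra
  haveI : IsScalarTower k K (Ω) := IsScalarTower.of_algebraMap_eq' rfl
  let χ : T →ₐ[K] Ω :=
    { toRingHom := (π)
      commutes' := fun _ => rfl }
  -- the coefficients become algebraic
  have hρk : ∀ c : k, res (MvPolynomial.C (algebraMap k S c)) = algebraMap k (Ω) c := fun c => by
    refine congrArg π (Subtype.ext ?_)
    refine (RingHom.congr_fun hg _).trans ((hkS c).trans ?_)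
    exact IsScalarTower.algebraMap_apply k K KC c
  let ρ : S →ₐ[k] Ω := { toRingHom := res.comp MvPolynomial.C, commutes' := hρk }
  have hρm : ∀ a ∈ m, ρ a = 0 := fun a ha => hgzero _ (by
    show (MvPolynomial.map (Ideal.Quotient.mk m)) (MvPolynomial.C a) = 0
    rw [MvPolynomial.map_C, Ideal.Quotient.eq_zero_iff_mem.2 ha, map_zero])
  have hρalg : ∀ a : S, IsAlgebraic k (res (MvPolynomial.C a)) := fun a =>
    (Algebra.IsAlgebraic.isAlgebraic (R := k) (Ideal.Quotient.mk m a)).algHom (Ideal.Quotient.liftₐ m ρ hρm)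
  have hresalg : ∀ q, IsAlgebraic K (res q) := fun q => by
    induction q using MvPolynomial.induction_on with
    | C a => exact (hρalg a).tower_top K
    | add p q hp hq => rw [map_add]; exact hp.add hq
    | mul_X p i hp =>
      rw [map_mul]
      refine hp.mul ?_
      have : res (MvPolynomial.X i) = algebraMap K (Ω) (x i) :=
        congrArg π (Subtype.ext ((RingHom.congr_fun hg _).trans (hxS i)))
      rw [this]
      exact isAlgebraic_algebraMap _
  refine ⟨_, inferInstance, inferInstance, inferInstance, inferInstance, T, χ, fun z hz => ?_, fun b hb => ?_⟩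
  · have hlc : (Q z hz).leadingCoeff ∉ P₀ := fun h => hdm (by
      have hGP : G ∈ P₀ := Ideal.mem_of_dvd _ (Finset.dvd_prod_of_mem (fun z => (Q z.1 z.2).leadingCoeff)
        (Finset.mem_attach _ ⟨z, hz⟩)) h
      have := congrArg (MvPolynomial.coeff d) (show MvPolynomial.map (Ideal.Quotient.mk m) G = 0 from hGP)
      rw [MvPolynomial.coeff_map, MvPolynomial.coeff_zero] at this
      exact Ideal.Quotient.eq_zero_iff_mem.1 this)
    have hroot : (Q z hz).eval₂ φ z = 0 := by
      rw [← Polynomial.eval₂_map, hQ]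
      exact hPz z
    have hzV : z ∈ V := mem_valuationSubring_of_root V g (hgunit _ hlc) (by rw [hg]; exact hroot)
    refine ⟨hzV, ?_⟩
    let E := algebraicClosure K (Ω)
    let resE : MvPolynomial ι S →+* E := res.codRestrict E fun q => mem_algebraicClosure_iff.2 (hresalg q)
    have h1 : ((Q z hz).map res).eval (χ ⟨z, hzV⟩) = 0 := by
      have h0 : (Q z hz).eval₂ g (⟨z, hzV⟩ : V) = 0 := Subtype.val_injective (by
        refine (Polynomial.hom_eval₂ (Q z hz) g V.subtype (⟨z, hzV⟩ : V)).trans ?_
        rw [hg]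
        exact hroot)
      rw [Polynomial.eval_map]
      exact (Polynomial.hom_eval₂ (Q z hz) g π (⟨z, hzV⟩ : V)).symm.trans
        ((congrArg π h0).trans (map_zero _))
    have h2 : IsAlgebraic E (χ ⟨z, hzV⟩) := by
      refine ⟨(Q z hz).map resE, fun h0 => ?_, ?_⟩
      · have h := congrArg (Polynomial.coeff · (Q z hz).natDegree) h0
        simp only [Polynomial.coeff_map, Polynomial.coeff_zero] at h
        exact ((hgunit _ hlc).map π).ne_zero (congrArg Subtype.val h)
      · rw [Polynomial.aeval_def, Polynomial.eval₂_map]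
        rw [Polynomial.eval_map] at h1
        exact h1
    exact h2.restrictScalars K
  · have hbS : b ∈ S := Algebra.subset_adjoin (Finset.mem_union_left _ hb)
    have hval : φ (MvPolynomial.C ⟨b, hbS⟩) = algebraMap L KC b := by simp [φ, inc]
    have hbV : algebraMap L KC b ∈ V := by
      rw [← hval, ← hg]
      exact (g _).2
    refine ⟨hbV, ?_⟩
    have : res (MvPolynomial.C (⟨b, hbS⟩ : S)) = χ ⟨_, hbV⟩ :=
      congrArg π (Subtype.ext ((RingHom.congr_fun hg _).trans hval))
    rw [← this]
    exact hρalg _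

end Groth.Agent.CovGon
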